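import Groth.Agent.SurjRel.TwoTerm
import Groth.Agent.DTenLib.RelDual
import Groth.Agent.DTenLib.Binders
import Groth.Agent.DTenLib.BaseAdj
import Groth.Agent.DTenLib.Core
import Groth.Agent.DRingTorAmp.Change

/-!
# `RHom(A, -)` along a surjection with invertible kernel
-/

universe u

open CategoryTheory Limits MonoidalCategory DTen HomologicalComplex
open scoped TensorProduct

namespace Groth.Agent.SurjRel

attribute [local instance] HasDerivedCategory.standard

set_option linter.style.haveILetI false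

open Groth.Agent.DTenLib Groth.Agent.DRingKFlat Groth.Agent.DRingTorAmp

variable {R A : Type u} [CommRing R] [CommRing A] [Algebra R A]

theorem exists_dual [Module.Invertible R (I R A)] :
    Nonempty (Dualizable (E R A) (dualCx (E R A))) := by
  have hf := E_finiteProjective R A
  obtain ⟨B⟩ := exists_dualBases (E_outside R A) hf
  refine ⟨⟨B.pairing, B.pairing', ?_, ?_⟩⟩
  · exact isKFl_of_flat (b := 0) (fun i hi => E_outside R A i (Or.inr hi)) fun i => by
      haveI := (hf i).2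
      exact Module.Flat.of_projective
  · refine isKFl_of_flat (b := 1) (fun i hi => dual_zero R A i (by omega) (by omega)) fun i => ?_
    haveI := (hf (-i)).1
    haveI := (hf (-i)).2
    haveI := projective_dual (A := R) ((E R A).X (-i))
    exact (Module.Flat.of_projective : Module.Flat R (Module.Dual R ((E R A).X (-i))))

/-- Restriction of `RHom(A, R)`. -/
theorem exists_res_rhom_iso (hφ : Function.Surjective (algebraMap R A)) [Module.Invertible R (I R A)]
    [HasLTen R] [HasLTen₃ R] [IsSymMonoidal R] [HasLTen A] [HasLBase (algebraMap R A)]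
    [HasResTen (algebraMap R A)] [ResLegIso (algebraMap R A)] [HasRHomRel (algebraMap R A)] :
    DRing.IsPerfect R (resOne (algebraMap R A)) ∧
      Nonempty ((DRing.restrictD (algebraMap R A)).obj ((RHomRel (algebraMap R A)).obj (DTen.unit R)) ≅
        DerivedCategory.Q.obj ((single (ModuleCat.{u} R) (ComplexShape.up ℤ) 1).obj
          (ModuleCat.of R (I R A →ₗ[R] A)))) := by
  haveI := quasiIso_aug R A hφ
  haveI := quasiIso_coaug R A hφ
  haveI : IsIso (DerivedCategory.Q.map (aug R A)) :=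
    (DerivedCategory.isIso_Q_map_iff_quasiIso _ _).2 inferInstance
  haveI : IsIso (DerivedCategory.Q.map (coaug R A)) :=
    (DerivedCategory.isIso_Q_map_iff_quasiIso _ _).2 inferInstance
  obtain ⟨e₀⟩ := nonempty_resOne_iso (R := R) (R' := A)
  let eS : DerivedCategory.Q.obj (E R A) ≅ resOne (algebraMap R A) :=
    asIso (DerivedCategory.Q.map (aug R A)) ≪≫ (inDIso A).symm ≪≫ e₀
  refine ⟨⟨E R A, -1, 0, E_outside R A, E_finiteProjective R A, ⟨eS⟩⟩, ?_⟩
  obtain ⟨D⟩ := exists_dual (R := R) (A := A)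
  have hu := (lUniv_relEv (algebraMap R A) (DTen.unit R)).of_iso_left eS.hom
  have hu' := lUniv_counit D (DTen.unit R)
  obtain ⟨j, hj⟩ := (hu' _).2 (tm eS.hom (𝟙 _) ≫ Groth.Agent.DTenLib.relEv (algebraMap R A) (DTen.unit R))
  haveI : IsIso j := hu.isIso hu' hj
  haveI := IsSymMonoidal.isIso_unitR (A := R)
  exact ⟨asIso j ≪≫ (asIso (DTen.unitR R)).app (DerivedCategory.Q.obj (dualCx (E R A))) ≪≫
    asIso (DerivedCategory.Q.map (coaug R A))⟩

theorem exactAt_of_res (φ : R →+* A) (W : DRing.Cx A) {M : ModuleCat.{u} R}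
    (e : (DRing.restrictD φ).obj (DerivedCategory.Q.obj W) ≅
      DerivedCategory.Q.obj ((single (ModuleCat.{u} R) (ComplexShape.up ℤ) 1).obj M)) (i : ℤ) (hi : i ≠ 1) :
    W.ExactAt i := by
  have h1 : ((single (ModuleCat.{u} R) (ComplexShape.up ℤ) 1).obj M).ExactAt i :=
    ShortComplex.exact_of_isZero_X₂ _ (isZero_single_obj_X (ComplexShape.up ℤ) _ _ _ hi)
  have h2 : ((DTen.resCx φ).obj W).ExactAt i := by
    rw [exactAt_iff_isZero_homology] at h1 ⊢
    refine h1.of_iso ?_
    exact ((DerivedCategory.homologyFunctorFactors _ i).app _).symm ≪≫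
      (DerivedCategory.homologyFunctor (ModuleCat.{u} R) i).mapIso
        (((DTen.resFactors φ).app W).symm ≪≫ e) ≪≫ (DerivedCategory.homologyFunctorFactors _ i).app _
  rw [exact_d_iff _ (i - 1) i (i + 1) (by omega) rfl] at h2 ⊢
  exact h2

theorem exists_rhom_iso (hφ : Function.Surjective (algebraMap R A)) [Module.Invertible R (I R A)]
    (N : Type u) [AddCommGroup N] [Module A N] (e : (A ⊗[R] I R A) ⊗[A] N ≃ₗ[A] A)
    [HasLTen R] [HasLTen₃ R] [IsSymMonoidal R] [HasLTen A] [HasLBase (algebraMap R A)]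
    [HasResTen (algebraMap R A)] [ResLegIso (algebraMap R A)] [HasRHomRel (algebraMap R A)] :
    Nonempty ((RHomRel (algebraMap R A)).obj (DTen.unit R) ≅ (Dual.inD A N)⟦(-1 : ℤ)⟧) := by
  obtain ⟨-, ⟨e₁⟩⟩ := exists_res_rhom_iso hφ
  let W := (RHomRel (algebraMap R A)).obj (DTen.unit R)
  obtain ⟨W₀, ⟨w⟩⟩ : ∃ W₀ : DRing.Cx A, Nonempty (DerivedCategory.Q.obj W₀ ≅ W) :=
    ⟨_, ⟨DerivedCategory.Q.objObjPreimageIso W⟩⟩
  have hz : ∀ i : ℤ, i ≠ 1 → IsZero ((DerivedCategory.homologyFunctor (ModuleCat.{u} A) i).obj W) := by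
    intro i hi
    have h := exactAt_of_res (algebraMap R A) W₀ ((DRing.restrictD (algebraMap R A)).mapIso w ≪≫ e₁) i hi
    rw [exactAt_iff_isZero_homology] at h
    exact h.of_iso ((DerivedCategory.homologyFunctor _ i).mapIso w.symm ≪≫
      (DerivedCategory.homologyFunctorFactors _ i).app W₀)
  haveI : W.IsGE 1 := (DerivedCategory.isGE_iff W 1).2 fun i hi => hz i (by omega)
  haveI : W.IsLE 1 := (DerivedCategory.isLE_iff W 1).2 fun i hi => hz i (by omega)
  obtain ⟨Y, ⟨y⟩⟩ := DerivedCategory.exists_iso_singleFunctor_obj_of_isGE_of_isLE W 1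
  let φ := algebraMap R A
  let eY : (DerivedCategory.singleFunctor (ModuleCat.{u} R) 1).obj ((ModuleCat.restrictScalars.{u} φ).obj Y) ≅
      (DerivedCategory.singleFunctor (ModuleCat.{u} R) 1).obj (ModuleCat.of R (I R A →ₗ[R] A)) :=
    (DerivedCategory.singleFunctorIsoCompQ _ 1).app _ ≪≫
      DerivedCategory.Q.mapIso ((singleMapHomologicalComplex (ModuleCat.restrictScalars.{u} φ)
        (ComplexShape.up ℤ) 1).app Y).symm ≪≫ ((DTen.resFactors φ).app _).symm ≪≫
      (DRing.restrictD φ).mapIso (((DerivedCategory.singleFunctorIsoCompQ _ 1).app Y).symm ≪≫ y.symm) ≪≫ e₁ ≪≫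
      ((DerivedCategory.singleFunctorIsoCompQ _ 1).app _).symm
  let f := ((DerivedCategory.singleFunctor (ModuleCat.{u} R) 1).preimageIso eY).toLinearEquiv
  let g : N ≃ₗ[A] (I R A →ₗ[R] A) :=
    Module.Invertible.linearEquivDual (TensorProduct.comm A N (A ⊗[R] I R A) ≪≫ₗ e) ≪≫ₗ
      (LinearMap.liftBaseChangeEquiv A).symm
  let fA : Y ≃ₗ[A] (I R A →ₗ[R] A) :=
    { f.toAddEquiv with
      map_smul' := fun a z => by
        obtain ⟨r, rfl⟩ := hφ a
        exact (f.map_smul r z).trans (LinearMap.ext fun x => Algebra.smul_def r _) }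
  let eN : Y ≅ ModuleCat.of A N := (fA ≪≫ₗ g.symm).toModuleIso
  exact ⟨y ≪≫ (DerivedCategory.singleFunctor (ModuleCat.{u} A) 1).mapIso eN ≪≫
    ((((DerivedCategory.singleFunctors (ModuleCat.{u} A)).shiftIso (-1) 1 0 (by omega))).app _).symm⟩

theorem main (hφ : Function.Surjective (algebraMap R A)) [Module.Invertible R (I R A)]
    (N : Type u) [AddCommGroup N] [Module A N] (e : (A ⊗[R] I R A) ⊗[A] N ≃ₗ[A] A)
    [HasRHomRel (algebraMap R A)] [HasLTenMix (algebraMap R A)] :
    Nonempty (RHomRel (algebraMap R A) ≅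
      (Functor.curry.obj (LTenMix (algebraMap R A))).flip.obj ((Dual.inD A N)⟦(-1 : ℤ)⟧)) := by
  haveI := hasLTen R
  haveI := hasLTen₃ R
  haveI := isSymMonoidal R
  haveI := hasLTen A
  haveI := hasLBase (algebraMap R A)
  haveI := hasResTen (algebraMap R A)
  haveI := resLegIso (algebraMap R A)
  obtain ⟨hperf, -⟩ := exists_res_rhom_iso (R := R) (A := A) hφ
  obtain ⟨i⟩ := nonempty_rhomRel_iso (algebraMap R A) hperf
  obtain ⟨w⟩ := exists_rhom_iso hφ N e
  exact ⟨i ≪≫ (Functor.curry.obj (LTenMix (algebraMap R A))).flip.mapIso w⟩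

end Groth.Agent.SurjRel
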