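import Groth.Agent.DTenLib.DualCx
import Groth.Agent.DRingTorAmp.Criterion
import Groth.Agent.FlatComplex.Elementwise
import Mathlib.Algebra.Homology.Double
import Mathlib.RingTheory.PicardGroup
import Mathlib.RingTheory.TensorProduct.Basic

/-!
# The two-term resolution of a quotient by an invertible ideal, and its dual
-/

universe u

open CategoryTheory Limits HomologicalComplex
open scoped TensorProduct

namespace Groth.Agent.SurjRel

open Groth.Agent.DTenLib Groth.Agent.DRingTorAmp

set_option linter.style.haveILetI false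

variable (R A : Type u) [CommRing R] [CommRing A] [Algebra R A]

/-- The kernel. -/
abbrev I : Ideal R := RingHom.ker (algebraMap R A)

theorem rel : (ComplexShape.up ℤ).Rel (-1) 0 := by simp

/-- `I ⟶ R` in degrees `-1, 0`. -/
noncomputable def E : DRing.Cx R :=
  double (ModuleCat.ofHom (Submodule.subtype (I R A)) : ModuleCat.of R (I R A) ⟶ ModuleCat.of R R) rel

/-- The term in degree `-1`. -/
noncomputable def eI : (E R A).X (-1) ≅ ModuleCat.of R (I R A) := doubleXIso₀ _ rel

/-- The term in degree `0`. -/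
noncomputable def eR : (E R A).X 0 ≅ ModuleCat.of R R := doubleXIso₁ _ rel (by omega)

theorem E_d : (E R A).d (-1) 0 = (eI R A).hom ≫ ModuleCat.ofHom (Submodule.subtype (I R A)) ≫ (eR R A).inv :=
  double_d _ rel (by omega)

theorem E_d_apply (x : (E R A).X (-1)) :
    (eR R A).hom ((E R A).d (-1) 0 x) = ((eI R A).hom x : I R A).1 := by
  rw [E_d]
  exact (eR R A).inv_hom_id_apply _

theorem E_zero (k : ℤ) (h₀ : k ≠ -1) (h₁ : k ≠ 0) : IsZero ((E R A).X k) := isZero_double_X _ rel k h₀ h₁

theorem E_outside : DRing.VanishesOutside (E R A) (-1) 0 := fun k hk => E_zero R A k (by omega) (by omega)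

theorem E_finiteProjective [Module.Invertible R (I R A)] : DRing.TermwiseFiniteProjective (E R A) := fun k => by
  by_cases h₀ : k = -1
  · subst h₀
    exact ⟨Module.Finite.equiv (eI R A).toLinearEquiv.symm, Module.Projective.of_equiv (eI R A).toLinearEquiv.symm⟩
  by_cases h₁ : k = 0
  · subst h₁
    exact ⟨Module.Finite.equiv (eR R A).toLinearEquiv.symm, Module.Projective.of_equiv (eR R A).toLinearEquiv.symm⟩
  haveI := ModuleCat.subsingleton_of_isZero (E_zero R A k h₀ h₁)
  exact ⟨inferInstance, inferInstance⟩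

/-- The augmentation. -/
noncomputable def aug : E R A ⟶ (single (ModuleCat.{u} R) (ComplexShape.up ℤ) 0).obj (ModuleCat.of R A) :=
  mkHomToSingle ((eR R A).hom ≫ ModuleCat.ofHom (Algebra.linearMap R A)) fun i hi => by
    obtain rfl : i = -1 := by simp at hi; omega
    refine ModuleCat.hom_ext (LinearMap.ext fun x => ?_)
    show algebraMap R A ((eR R A).hom ((E R A).d (-1) 0 x)) = 0
    rw [E_d_apply]
    exact RingHom.mem_ker.1 ((eI R A).hom x : I R A).2

theorem aug_zero (x : (E R A).X 0) :
    (singleObjXSelf (ComplexShape.up ℤ) 0 (ModuleCat.of R A)).hom ((aug R A).f 0 x) =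
      algebraMap R A ((eR R A).hom x) := by
  rw [aug, mkHomToSingle_f]
  exact (singleObjXSelf (ComplexShape.up ℤ) 0 (ModuleCat.of R A)).inv_hom_id_apply _

theorem E_d_injective : Function.Injective ((E R A).d (-1) 0) := by
  intro x y hxy
  refine (eI R A).toLinearEquiv.injective (Subtype.ext ?_)
  have := congrArg (eR R A).hom hxy
  rwa [E_d_apply, E_d_apply] at this

theorem quasiIso_aug (hφ : Function.Surjective (algebraMap R A)) : QuasiIso (aug R A) := by
  refine ⟨fun i => ?_⟩
  by_cases hi : i = 0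
  · subst hi
    rw [quasiIsoAt_iff' _ (-1) 0 1 (by simp) (by simp), ShortComplex.quasiIso_iff,
      ConcreteCategory.isIso_iff_bijective]
    refine ⟨(FlatComplex.homologyMap_injective_iff _).2 ?_, (FlatComplex.homologyMap_surjective_iff _).2 ?_⟩
    · rintro x - ⟨w, hw⟩
      have hx : (aug R A).f 0 x = 0 := by
        refine hw.trans ?_
        exact (congrArg _ (@Subsingleton.elim _ (ModuleCat.subsingleton_of_isZero
          (isZero_single_obj_X (ComplexShape.up ℤ) 0 (ModuleCat.of R A) (-1) (by omega))) w 0)).trans (map_zero _)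
      have hc := aug_zero R A x
      rw [hx, map_zero] at hc
      refine ⟨(eI R A).inv ⟨(eR R A).hom x, RingHom.mem_ker.2 hc.symm⟩, (eR R A).toLinearEquiv.injective ?_⟩
      refine Eq.symm ((E_d_apply R A _).trans ?_)
      rw [Iso.inv_hom_id_apply]
      rfl
    · intro z _
      obtain ⟨r, hr⟩ := hφ ((singleObjXSelf (ComplexShape.up ℤ) 0 (ModuleCat.of R A)).hom z)
      refine ⟨(eR R A).inv r, ?_, 0, ?_⟩
      · exact @Subsingleton.elim _ (ModuleCat.subsingleton_of_isZero (E_zero R A 1 (by omega) (by omega))) _ _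
      · refine (sub_eq_zero.2 ?_).trans (map_zero _).symm
        refine (singleObjXSelf (ComplexShape.up ℤ) 0 (ModuleCat.of R A)).toLinearEquiv.injective ?_
        refine (aug_zero R A _).trans ?_
        rw [Iso.inv_hom_id_apply]
        exact hr
  · have hT : ((single (ModuleCat.{u} R) (ComplexShape.up ℤ) 0).obj (ModuleCat.of R A)).ExactAt i :=
      ShortComplex.exact_of_isZero_X₂ _ (isZero_single_obj_X (ComplexShape.up ℤ) _ _ _ hi)
    rw [quasiIsoAt_iff_exactAt' _ _ hT, exact_d_iff _ (i - 1) i (i + 1) (by omega) rfl]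
    by_cases h₁ : i = -1
    · subst h₁
      intro x
      constructor
      · intro hx
        exact ⟨0, (map_zero _).trans (E_d_injective R A (hx.trans (map_zero _).symm)).symm⟩
      · rintro ⟨w, rfl⟩
        exact congrArg (fun f => f.hom w) ((E R A).d_comp_d (-1 - 1) (-1) (-1 + 1))
    · haveI := ModuleCat.subsingleton_of_isZero (E_zero R A i h₁ hi)
      exact fun x => ⟨fun _ => ⟨0, Subsingleton.elim _ _⟩, fun _ => by rw [Subsingleton.elim x 0, map_zero]⟩

/-- The dual maps to `Hom(I, A)` in degree `1`. -/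
noncomputable def coaug :
    dualCx (E R A) ⟶ (single (ModuleCat.{u} R) (ComplexShape.up ℤ) 1).obj (ModuleCat.of R (I R A →ₗ[R] A)) :=
  mkHomToSingle (ModuleCat.ofHom
    ((LinearMap.llcomp R (I R A) R A (Algebra.linearMap R A)) ∘ₗ
      (LinearMap.lcomp R R (eI R A).inv.hom : Module.Dual R ((E R A).X (-1)) →ₗ[R] (I R A →ₗ[R] R)))) fun i hi => by
    obtain rfl : i = 0 := by simp at hi; omega
    refine ModuleCat.hom_ext (LinearMap.ext fun ψ => LinearMap.ext fun x => ?_)
    show algebraMap R A (unfn (E R A) ((dualCx (E R A)).d 0 (0 + 1) ψ) ((eI R A).inv x)) = 0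
    rw [dualCx_d_apply, Units.smul_def, map_zsmul]
    have h : unfn (E R A) ψ ((E R A).d (-1) 0 ((eI R A).inv x)) =
        (x : R) * unfn (E R A) ψ ((eR R A).inv (1 : R)) := by
      rw [← smul_eq_mul, ← map_smul]
      refine congrArg _ ((eR R A).toLinearEquiv.injective ?_)
      refine (E_d_apply R A _).trans ?_
      rw [Iso.inv_hom_id_apply, map_smul]
      exact ((congrArg ((x : R) • ·) ((eR R A).inv_hom_id_apply (1 : R))).trans (mul_one _)).symm
    show ((0 : ℤ) + 1).negOnePow.val • algebraMap R A (unfn (E R A) ψ ((E R A).d (-1) 0 ((eI R A).inv x))) = 0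
    rw [h, map_mul, RingHom.mem_ker.1 x.2, zero_mul, smul_zero]

theorem coaug_one (ψ : (dualCx (E R A)).X 1) (x : I R A) :
    ((singleObjXSelf (ComplexShape.up ℤ) 1 (ModuleCat.of R (I R A →ₗ[R] A))).hom ((coaug R A).f 1 ψ)) x =
      algebraMap R A (unfn (E R A) ψ ((eI R A).inv x)) := by
  rw [coaug, mkHomToSingle_f]
  exact congrArg (fun f : I R A →ₗ[R] A => f x)
    ((singleObjXSelf (ComplexShape.up ℤ) 1 (ModuleCat.of R (I R A →ₗ[R] A))).inv_hom_id_apply _)

theorem dual_zero (k : ℤ) (h₀ : k ≠ 0) (h₁ : k ≠ 1) : IsZero ((dualCx (E R A)).X k) := by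
  haveI := ModuleCat.subsingleton_of_isZero (E_zero R A (-k) (by omega) (by omega))
  haveI : Subsingleton (Module.Dual R ((E R A).X (-k))) :=
    ⟨fun f g => LinearMap.ext fun x => by rw [Subsingleton.elim x 0, map_zero, map_zero]⟩
  exact ModuleCat.isZero_of_subsingleton (ModuleCat.of R (Module.Dual R ((E R A).X (-k))))

theorem dual_d_apply (ψ : (dualCx (E R A)).X 0) (y : (E R A).X (-1)) :
    unfn (E R A) ((dualCx (E R A)).d 0 1 ψ) y = - unfn (E R A) ψ ((E R A).d (-1) 0 y) := by
  have h := dualCx_d_apply (E R A) 0 ψ y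
  refine h.trans ?_
  rw [show ((0 : ℤ) + 1).negOnePow = -1 by decide, Units.smul_def]
  exact neg_one_smul ℤ _

theorem dual_d_injective [Module.Invertible R (I R A)] : Function.Injective ((dualCx (E R A)).d 0 1) := by
  rw [injective_iff_map_eq_zero]
  intro ψ hψ
  let s : R := unfn (E R A) ψ ((eR R A).inv (1 : R))
  have key : ∀ x : (E R A).X 0, unfn (E R A) ψ x = ((eR R A).hom x : R) * s := fun x => by
    rw [← smul_eq_mul, ← map_smul]
    refine congrArg _ ((eR R A).toLinearEquiv.injective ?_)
    rw [map_smul]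
    exact ((congrArg (((eR R A).hom x : R) • ·) ((eR R A).inv_hom_id_apply (1 : R))).trans (mul_one _)).symm
  have hs : s = 0 := by
    refine FaithfulSMul.eq_of_smul_eq_smul (α := I R A) fun x => Subtype.ext ?_
    show s * (x : R) = (((0 : R) • x : I R A) : R)
    rw [zero_smul, mul_comm]
    have h := congrArg (fun f => unfn (E R A) f ((eI R A).inv x)) hψ
    rw [dual_d_apply, key, E_d_apply, Iso.inv_hom_id_apply] at h
    exact (neg_eq_zero.1 (h.trans rfl)).trans rfl
  refine LinearMap.ext fun x => ?_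
  show unfn (E R A) ψ x = 0
  rw [key, hs, mul_zero]

theorem quasiIso_coaug [Module.Invertible R (I R A)] (hφ : Function.Surjective (algebraMap R A)) :
    QuasiIso (coaug R A) := by
  refine ⟨fun i => ?_⟩
  by_cases hi : i = 1
  · subst hi
    rw [quasiIsoAt_iff' _ 0 1 2 (by simp) (by simp), ShortComplex.quasiIso_iff,
      ConcreteCategory.isIso_iff_bijective]
    refine ⟨(FlatComplex.homologyMap_injective_iff _).2 ?_, (FlatComplex.homologyMap_surjective_iff _).2 ?_⟩
    · rintro ψ - ⟨w, hw⟩
      have hψ : (coaug R A).f 1 ψ = 0 := by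
        refine hw.trans ?_
        exact (congrArg _ (@Subsingleton.elim _ (ModuleCat.subsingleton_of_isZero
          (isZero_single_obj_X (ComplexShape.up ℤ) 1 (ModuleCat.of R (I R A →ₗ[R] A)) 0 (by omega))) w 0)).trans (map_zero _)
      -- `ψ` takes values in `I`, hence is a multiple of the inclusion
      have hmem : ∀ x : I R A, unfn (E R A) ψ ((eI R A).inv x) ∈ I R A := fun x => by
        refine RingHom.mem_ker.2 ((coaug_one R A ψ x).symm.trans ?_)
        rw [hψ, map_zero]
        rfl
      let g : I R A →ₗ[R] I R A :=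
        LinearMap.codRestrict (I R A) ((unfn (E R A) ψ) ∘ₗ (eI R A).inv.hom) hmem
      obtain ⟨r, hr⟩ := (Module.Invertible.toModuleEnd_bijective R (I R A)).surjective g
      refine ⟨fn (E R A) 0 ((-r) • (eR R A).hom.hom), ?_⟩
      refine LinearMap.ext fun y => ?_
      show unfn (E R A) ψ y = _
      refine Eq.symm ((dual_d_apply R A _ y).trans ?_)
      show - ((-r) * ((eR R A).hom ((E R A).d (-1) 0 y) : R)) = unfn (E R A) ψ y
      rw [E_d_apply, neg_mul, neg_neg]
      have hx := congrArg Subtype.val (LinearMap.congr_fun hr ((eI R A).hom y))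
      refine hx.trans ?_
      exact congrArg (unfn (E R A) ψ) ((eI R A).hom_inv_id_apply y)
    · intro z _
      obtain ⟨l, hl⟩ := Module.projective_lifting_property (Algebra.linearMap R A)
        ((singleObjXSelf (ComplexShape.up ℤ) 1 (ModuleCat.of R (I R A →ₗ[R] A))).hom z) hφ
      refine ⟨fn (E R A) 1 (l ∘ₗ (eI R A).hom.hom), ?_, 0, ?_⟩
      · exact @Subsingleton.elim _ (ModuleCat.subsingleton_of_isZero (dual_zero R A 2 (by omega) (by omega))) _ _
      · refine (sub_eq_zero.2 ?_).trans (map_zero _).symm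
        refine (singleObjXSelf (ComplexShape.up ℤ) 1 (ModuleCat.of R (I R A →ₗ[R] A))).toLinearEquiv.injective ?_
        refine LinearMap.ext fun x => (coaug_one R A _ x).trans ?_
        show algebraMap R A (l ((eI R A).hom ((eI R A).inv x))) = _
        rw [Iso.inv_hom_id_apply]
        exact LinearMap.congr_fun hl x
  · have hT : ((single (ModuleCat.{u} R) (ComplexShape.up ℤ) 1).obj (ModuleCat.of R (I R A →ₗ[R] A))).ExactAt i :=
      ShortComplex.exact_of_isZero_X₂ _ (isZero_single_obj_X (ComplexShape.up ℤ) _ _ _ hi)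
    rw [quasiIsoAt_iff_exactAt' _ _ hT, exact_d_iff _ (i - 1) i (i + 1) (by omega) rfl]
    by_cases h₁ : i = 0
    · subst h₁
      intro x
      constructor
      · intro hx
        exact ⟨0, (map_zero _).trans (dual_d_injective R A (hx.trans (map_zero _).symm)).symm⟩
      · rintro ⟨w, rfl⟩
        exact congrArg (fun f => f.hom w) ((dualCx (E R A)).d_comp_d (0 - 1) 0 (0 + 1))
    · haveI := ModuleCat.subsingleton_of_isZero (dual_zero R A i h₁ hi)
      exact fun x => ⟨fun _ => ⟨0, Subsingleton.elim _ _⟩, fun _ => by rw [Subsingleton.elim x 0, map_zero]⟩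

end Groth.Agent.SurjRel
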